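import Mathlib.RingTheory.Trace.Basic
import Mathlib.RingTheory.IntegralClosure.IntegralRestrict
import Mathlib.RingTheory.DedekindDomain.IntegralClosure
import Mathlib.RingTheory.LocalRing.Length
import Mathlib.RingTheory.Length
import Mathlib.RingTheory.Finiteness.Cardinality
import Mathlib.RingTheory.LocalRing.ResidueField.Instances

/-! Trace-dual families of integral elements, and lengths along a finite local extension. -/

set_option autoImplicit false
set_option linter.style.haveILetI false
set_option maxHeartbeats 1000000

universe u

noncomputable section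

namespace Groth.L05.SepUp

variable (A B K L : Type u) [CommRing A] [CommRing B] [IsDomain A] [IsDomain B] [Field K] [Field L]
  [Algebra A K] [IsFractionRing A K] [Algebra B L] [IsFractionRing B L] [Algebra A B] [Algebra K L] [Algebra A L]
  [IsScalarTower A K L] [IsScalarTower A B L] [Module.Finite A B] [IsIntegrallyClosed B]

include A B in
/-- The fraction field of a finite extension is finite over the fraction field. -/
theorem finiteDimensional (hinj : Function.Injective (algebraMap A B)) : FiniteDimensional K L := by
  haveI : Module.IsTorsionFree A B := by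
    rw [Module.isTorsionFree_iff_algebraMap_injective]; exact hinj
  haveI : Algebra.IsIntegral A B := inferInstance
  haveI : IsIntegralClosure B A L := IsIntegralClosure.of_isIntegrallyClosed _ _ _
  haveI : Algebra.IsAlgebraic K L := isAlgebraic_of_isFractionRing A B K L
  haveI : IsLocalization (Algebra.algebraMapSubmonoid B (nonZeroDivisors A)) L :=
    IsIntegralClosure.isLocalization _ K _ _
  exact Module.Finite.of_isLocalization A B (nonZeroDivisors A)

/-- Integral elements `bᵢ, cᵢ` with `∑ cᵢ tr (bᵢ s) = d s`. -/
theorem exists_dual [FiniteDimensional K L] [Algebra.IsSeparable K L] :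
    ∃ (m : ℕ) (b c : Fin m → B) (d : A), d ≠ 0 ∧ ∀ s : L,
      ∑ i, algebraMap B L (c i) * algebraMap K L (Algebra.trace K L (algebraMap B L (b i) * s)) =
        algebraMap A L d * s := by
  classical
  let bs := Module.finBasis K L
  let ds := bs.traceDual
  obtain ⟨y, hy, hys⟩ := exists_integral_multiples A K (Finset.univ.image bs ∪ Finset.univ.image ds)
  have hB : ∀ x ∈ Finset.univ.image bs ∪ Finset.univ.image ds, ∃ r : B, algebraMap B L r = y • x := fun x hx =>
    IsIntegrallyClosed.algebraMap_eq_of_integral (IsIntegral.tower_top (hys x hx))
  choose b hb using fun i => hB (bs i) (Finset.mem_union_left _ (Finset.mem_image_of_mem _ (Finset.mem_univ i)))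
  choose c hc using fun i => hB (ds i) (Finset.mem_union_right _ (Finset.mem_image_of_mem _ (Finset.mem_univ i)))
  refine ⟨_, b, c, y * y, mul_ne_zero hy hy, fun s => ?_⟩
  have h : ∀ i, algebraMap B L (c i) * algebraMap K L (Algebra.trace K L (algebraMap B L (b i) * s)) =
      algebraMap A L (y * y) * (Algebra.trace K L (s * bs i) • ds i) := fun i => by
    rw [hb, hc, show (y • bs i) * s = algebraMap A K y • (s * bs i) by
      rw [algebraMap_smul, smul_mul_assoc, mul_comm], map_smul, smul_eq_mul,
      map_mul (algebraMap K L), ← IsScalarTower.algebraMap_apply, Algebra.smul_def, Algebra.smul_def,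
      map_mul (algebraMap A L)]
    ring
  simp_rw [h]
  rw [← Finset.mul_sum]
  congr 1
  conv_rhs => rw [← ds.sum_repr s]
  exact Finset.sum_congr rfl fun i _ => by
    rw [Module.Basis.traceDual_repr_apply, Algebra.traceForm_apply]

end Groth.L05.SepUp

namespace Groth.L05.SepUp

open IsLocalRing

variable (A B : Type u) [CommRing A] [CommRing B] [IsLocalRing A] [IsLocalRing B] [Algebra A B]
  [IsLocalHom (algebraMap A B)] [Module.Finite A B]

/-- Lengths over the base grow at most by a fixed factor. -/
theorem exists_factor : ∃ r : ℕ, ∀ (M : Type u) [AddCommGroup M] [Module A M] [Module B M] [IsScalarTower A B M],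
    Module.length A M ≤ Module.length B M * (r : ℕ∞) := by
  refine ⟨Module.finrank (ResidueField A) (ResidueField B), fun M _ _ _ _ => ?_⟩
  rw [IsLocalRing.length_restrictScalars A B M, Module.length_eq_finrank]

end Groth.L05.SepUp
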