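import Groth.Agent.L05.PtSeq.NormDominate
import Groth.Agent.L05.PtSeq.Rational

/-!
# Modifications whose centres of the contracted curves are curves dominate
-/

set_option autoImplicit false
set_option linter.style.haveILetI false
set_option backward.isDefEq.respectTransparency false
set_option backward.isDefEq.respectTransparency.types false

universe u

open CategoryTheory CategoryTheory.Limits AlgebraicGeometry TopologicalSpace
open Groth.L22
open Resolve
open Groth.L05.MinDesing (IsBir isBir_comp)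

noncomputable section

namespace Groth.L05.PtSeq

variable {Z X Y : Scheme.{u}} [IsIntegral X] [AlgebraicGeometry.IsNoetherian X]

/-- A modification with curves as centres of the contracted curves of another one dominates it. -/
theorem dominate_of_centres (hd : topologicalKrullDim X ≤ 2) [IsIntegral Y] [AlgebraicGeometry.IsNoetherian Y]
    (hY : Pi1.IsNormalScheme Y) (f : Y ⟶ X) [IsProper f] (hf : IsBir f) [IsIntegral Z]
    [AlgebraicGeometry.IsNoetherian Z] (g : Z ⟶ X) [IsProper g] (hgb : IsBir g) (hgn : Pi1.IsNormalScheme Z)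
    (hcentres : ∀ η ∈ contrCurves f, ∀ σ : Spec (Y.presheaf.stalk η) ⟶ Z, σ ≫ g = Y.fromSpecStalk η ≫ f →
        ¬ IsClosed ({σ (IsLocalRing.closedPoint (Y.presheaf.stalk η))} : Set Z)) :
    ∃ h : Z ⟶ Y, h ≫ f = g := by
  classical
  obtain ⟨V, hV, hiso⟩ := id hf
  haveI := hiso
  obtain ⟨ef, -⟩ := birational_data f ⟨V, hV, inferInstance⟩
  have hVξ : genericPoint X ∈ V := Groth.L05.MinDesing.genericPoint_mem hV
  have hdY : topologicalKrullDim Y ≤ 2 := dim_le_of_stalks fun y =>
    (Groth.L13.ModFibre.ringKrullDim_stalk_le f V ⟨genericPoint Y, by rw [ef]; exact hVξ⟩ y).trans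
      ((Groth.L15.CohFlat.ringKrullDim_stalk_le (f y)).trans hd)
  obtain ⟨Vg, hVg, hisog⟩ := id hgb
  haveI := hisog
  obtain ⟨eg, -⟩ := birational_data g ⟨Vg, hVg, inferInstance⟩
  have hdZ : topologicalKrullDim Z ≤ 2 := dim_le_of_stalks fun y =>
    (Groth.L13.ModFibre.ringKrullDim_stalk_le g Vg ⟨genericPoint Z, by
      rw [eg]; exact Groth.L05.MinDesing.genericPoint_mem hVg⟩ y).trans
      ((Groth.L15.CohFlat.ringKrullDim_stalk_le (g y)).trans hd)
  -- the graph
  have hUne : ((g ⁻¹ᵁ V : Z.Opens) : Set Z).Nonempty := ⟨genericPoint Z, by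
    show g (genericPoint Z) ∈ V
    rw [eg]; exact hVξ⟩
  obtain ⟨W, ι, hWi, hι, hisoW, -⟩ := exists_graph_closed g f (g ⁻¹ᵁ V) hUne
    ((g ∣_ V) ≫ inv (f ∣_ V) ≫ (f ⁻¹ᵁ V).ι) (by
      rw [Category.assoc, Category.assoc, ← morphismRestrict_ι, IsIso.inv_hom_id_assoc, morphismRestrict_ι])
  haveI := hWi; haveI := hι
  let q := ι ≫ pullback.fst g f
  let ψ := ι ≫ pullback.snd g f
  haveI : IsProper (pullback.fst g f) := MorphismProperty.pullback_fst (P := @IsProper) _ _ inferInstance
  haveI : IsProper (pullback.snd g f) := MorphismProperty.pullback_snd (P := @IsProper) _ _ inferInstance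
  haveI : IsProper q := inferInstance
  haveI : IsProper ψ := inferInstance
  haveI : IsLocallyNoetherian W := LocallyOfFiniteType.isLocallyNoetherian q
  haveI : CompactSpace W := QuasiCompact.compactSpace_of_compactSpace q
  have hW' : AlgebraicGeometry.IsNoetherian W := ⟨⟩
  have hcomm : ψ ≫ f = q ≫ g := by
    show (ι ≫ pullback.snd g f) ≫ f = (ι ≫ pullback.fst g f) ≫ g
    rw [Category.assoc, Category.assoc, pullback.condition]
  have hqbir : IsBir q := ⟨g ⁻¹ᵁ V, hUne, hisoW⟩
  have hψbir : IsBir ψ := by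
    haveI : IsProper f := inferInstance
    obtain ⟨Vc, hVc, hVciso⟩ := isBir_comp q g hqbir hgb
    haveI := hVciso
    refine ⟨f ⁻¹ᵁ (Vc ⊓ V), ⟨genericPoint Y, ?_⟩, ?_⟩
    · show f (genericPoint Y) ∈ Vc ⊓ V
      rw [ef]; exact ⟨Groth.L05.MinDesing.genericPoint_mem hVc, hVξ⟩
    · haveI : IsIso ((ψ ≫ f) ∣_ (Vc ⊓ V)) := by
        rw [hcomm]; exact Groth.L05.MinDesing.isIso_restrict_le (q ≫ g) inf_le_left
      haveI : IsIso (f ∣_ (Vc ⊓ V)) := Groth.L05.MinDesing.isIso_restrict_le f inf_le_right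
      haveI : IsIso ((ψ ∣_ f ⁻¹ᵁ (Vc ⊓ V)) ≫ f ∣_ (Vc ⊓ V)) := by
        rw [← morphismRestrict_comp]; infer_instance
      exact IsIso.of_isIso_comp_right _ (f ∣_ (Vc ⊓ V))
  obtain ⟨eψ, hψiso⟩ := birational_data ψ hψbir
  haveI := hψiso
  obtain ⟨Vψ, hVψiso, -, hVψ⟩ := Groth.Agent.S11555.result ψ hY eψ
    (ConcreteCategory.bijective_of_isIso (ψ.stalkMap (genericPoint W)))
  haveI := hVψiso
  obtain ⟨eq, hqiso⟩ := birational_data q hqbir
  haveI := hqiso
  obtain ⟨Vq, hVqiso, -, hVq⟩ := Groth.Agent.S11555.result q hgn eq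
    (ConcreteCategory.bijective_of_isIso (q.stalkMap (genericPoint W)))
  haveI := hVqiso
  have hfib : ∀ z : Z, (q ⁻¹' {z}).Finite := by
    intro z
    by_cases hzV : z ∈ Vq
    · refine Set.Subsingleton.finite fun a ha b hb => ?_
      exact Groth.L05.RelMinExists.eq_of_isIso_restrict' q Vq (by rw [show q a = z from ha]; exact hzV) (ha.trans hb.symm)
    have hzc : IsClosed ({z} : Set Z) := closure_subset_iff_isClosed.1 fun d hd' =>
      Groth.L05.RelMinExists.eq_of_dim_two_le hdZ (hVq z hzV) (specializes_iff_mem_closure.2 hd')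
    refine (finite_isolated (hzc.preimage q.continuous)).subset fun w hw => ⟨hw, fun v hv hvw => ?_⟩
    by_contra hne
    have hvc : ¬ IsClosed ({v} : Set W) := fun h => hne (hvw.mem_closed h rfl).symm
    let η := ψ v
    have hqv : q v = z := hv
    have hfη : f η = g z := by
      show f (ψ v) = _
      rw [← Scheme.Hom.comp_apply, hcomm, Scheme.Hom.comp_apply, hqv]
    have hxc : IsClosed ({g z} : Set X) := by
      rw [← Set.image_singleton]; exact g.isClosedMap _ hzc
    have hηc : ¬ IsClosed ({η} : Set Y) := fun h => by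
      refine hvc ?_
      have h' := isClosed_of_both_closed g f (m := ι v) (by
          show IsClosed ({q v} : Set Z)
          rw [hqv]; exact hzc) (by
          show IsClosed ({g (q v)} : Set X)
          rw [hqv]; exact hxc) h
      have h'' := h'.preimage ι.continuous
      rwa [show ι ⁻¹' {ι v} = {v} from Set.ext fun a =>
        ⟨fun e => ι.isClosedEmbedding.injective e, fun e => congrArg ι e⟩] at h''
    have hηB : η ∈ contrCurves f := ⟨hηc, by rw [hfη]; exact hxc⟩
    haveI := valuation_stalk hdY hY hηc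
    let O := Y.presheaf.stalk η
    obtain ⟨τ, hτ, -⟩ := exists_val_lift (O := O) ψ hψbir (Y.fromSpecStalk η) (genericPoint_fromSpecStalk η)
    have hηV : η ∈ Vψ := by
      by_contra hn
      exact hηc (closure_subset_iff_isClosed.1 fun d hd' =>
        Groth.L05.RelMinExists.eq_of_dim_two_le hdY (hVψ η hn) (specializes_iff_mem_closure.2 hd'))
    have hτv : τ (IsLocalRing.closedPoint O) = v := by
      refine Groth.L05.RelMinExists.eq_of_isIso_restrict' ψ Vψ ?_ ?_
      · have hp' : Y.fromSpecStalk η (IsLocalRing.closedPoint O) = η := Scheme.fromSpecStalk_closedPoint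
        rw [← Scheme.Hom.comp_apply, hτ]; exact (congrArg (fun x => x ∈ Vψ) hp').mpr hηV
      · have hp' : Y.fromSpecStalk η (IsLocalRing.closedPoint O) = η := Scheme.fromSpecStalk_closedPoint
        rw [← Scheme.Hom.comp_apply, hτ]; exact hp'
    refine hcentres η hηB (τ ≫ q) (by rw [Category.assoc, ← hcomm, reassoc_of% hτ]) ?_
    rw [Scheme.Hom.comp_apply]
    exact (congrArg (fun x => IsClosed ({q x} : Set Z)) hτv).mpr ((congrArg (fun x => IsClosed ({x} : Set Z)) hqv).mpr hzc)
  haveI : LocallyQuasiFinite q := LocallyQuasiFinite.of_finite_preimage_singleton _ hfib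
  haveI : IsFinite q := IsFinite.of_isProper_of_locallyQuasiFinite _
  haveI : IsIso q := Groth.L21.isIso_of_isFinite_of_normal q hgn eq hqiso
  exact ⟨inv q ≫ ψ, by rw [Category.assoc, hcomm, IsIso.inv_hom_id_assoc]⟩

end Groth.L05.PtSeq
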