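import Groth.Agent.L05.SepUp.Transc
import Groth.Agent.L05.SepUp.Centres
import Groth.Agent.L05.TraceSplit.Modif
import Groth.Agent.L05.PtSeq.NormNagata

/-!
# Modifications of a finite extension are dominated by covers of modifications
-/

set_option autoImplicit false
set_option linter.style.haveILetI false
set_option maxHeartbeats 1000000
set_option backward.isDefEq.respectTransparency false
set_option backward.isDefEq.respectTransparency.types false

universe u

open CategoryTheory CategoryTheory.Limits AlgebraicGeometry TopologicalSpace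
open Groth.L05.PtSeq
open Groth.L05.MinDesing (IsBir)

noncomputable section

namespace Groth.L05.SepUp

theorem eq_closedPoint_of_isClosed {A : Type u} [CommRing A] [IsLocalRing A] {q : Spec (CommRingCat.of A)}
    (hq : IsClosed ({q} : Set (Spec (CommRingCat.of A)))) : q = IsLocalRing.closedPoint A :=
  ((IsLocalRing.specializes_closedPoint (R := A) q).mem_closed hq rfl).symm

variable {A B : Type u} [CommRing A] [CommRing B] [IsDomain A] [IsDomain B] [IsLocalRing A]
  [IsNoetherianRing A] [IsNoetherianRing B] [IsIntegrallyClosed A]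
  [Algebra A B] [Module.Finite A B]

theorem exists_cover_dominate (hNA : CAlg.IsNagata A) (hNB : CAlg.IsNagata B) (hdA : ringKrullDim A = 2)
    (hdB : ringKrullDim B = 2) (hinj : Function.Injective (algebraMap A B))
    {Y : Scheme.{u}} [IsIntegral Y] (g : Y ⟶ Spec (CommRingCat.of B)) [IsProper g] (hY : Pi1.IsNormalScheme Y)
    (hg : IsBir g) :
    ∃ (X : Scheme.{u}) (f : X ⟶ Spec (CommRingCat.of A)) (_ : IsIntegral X), IsProper f ∧ Pi1.IsNormalScheme X ∧
      IsBir f ∧ ∃ (Z : Scheme.{u}) (π : Z ⟶ X) (g' : Z ⟶ Spec (CommRingCat.of B)) (_ : IsIntegral Z),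
        IsFinite π ∧ IsProper g' ∧ Pi1.IsNormalScheme Z ∧ IsBir g' ∧
        π ≫ f = g' ≫ Spec.map (CommRingCat.ofHom (algebraMap A B)) ∧ π (genericPoint Z) = genericPoint X ∧
        ∃ h : Z ⟶ Y, h ≫ g = g' := by
  classical
  let β : Spec (CommRingCat.of B) ⟶ Spec (CommRingCat.of A) := Spec.map (CommRingCat.ofHom (algebraMap A B))
  haveI : IsFinite β := (HasAffineProperty.SpecMap_iff_of_affineAnd (P := @IsFinite) inferInstance
    RingHom.finite_respectsIso _).2 (RingHom.finite_algebraMap.2 inferInstance)
  haveI : IsLocallyNoetherian Y := LocallyOfFiniteType.isLocallyNoetherian g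
  haveI : CompactSpace Y := QuasiCompact.compactSpace_of_compactSpace g
  haveI hYN : AlgebraicGeometry.IsNoetherian Y := ⟨⟩
  have hdimA : topologicalKrullDim (Spec (CommRingCat.of A)) = 2 :=
    (PrimeSpectrum.topologicalKrullDim_eq_ringKrullDim A).trans hdA
  have hdimB : topologicalKrullDim (Spec (CommRingCat.of B)) ≤ 2 :=
    ((PrimeSpectrum.topologicalKrullDim_eq_ringKrullDim B).trans hdB).le
  obtain ⟨V, hV, hiso⟩ := id hg
  haveI := hiso
  obtain ⟨eg, -⟩ := birational_data g ⟨V, hV, inferInstance⟩
  have hdY : topologicalKrullDim Y ≤ 2 := dim_le_of_stalks fun y =>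
    (Groth.L13.ModFibre.ringKrullDim_stalk_le g V ⟨genericPoint Y, by
      rw [eg]; exact Groth.L05.MinDesing.genericPoint_mem hV⟩ y).trans
      ((Groth.L15.CohFlat.ringKrullDim_stalk_le (g y)).trans hdimB)
  have hgenA := gen_not_closed_of_dim hdimA
  have hgenB := gen_not_closed_of_dim (X := Spec (CommRingCat.of B))
    ((PrimeSpectrum.topologicalKrullDim_eq_ringKrullDim B).trans hdB)
  have hfinB := finite_contrCurves hdY g hg hgenB
  have hβgen : β (genericPoint (Spec (CommRingCat.of B))) = genericPoint (Spec (CommRingCat.of A)) := by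
    rw [genericPoint_eq_bot_of_affine, genericPoint_eq_bot_of_affine]
    exact PrimeSpectrum.ext (Ideal.comap_bot_of_injective _ hinj)
  have hAn : Pi1.IsNormalScheme (Spec (CommRingCat.of A)) := Groth.L05.NeronFinite.isNormalScheme_spec fun P _ =>
    ⟨inferInstance, isIntegrallyClosed_of_isLocalization _ P.primeCompl P.primeCompl_le_nonZeroDivisors⟩
  have hFin : FinNorm (Spec (CommRingCat.of A)) := finNorm_of_nagata (Groth.L05.RatPow.isNagata_opens_spec hNA)
  have key : ∀ S : Finset Y, (↑S : Set Y) ⊆ contrCurves g → ∃ (X : Scheme.{u}) (f : X ⟶ Spec (CommRingCat.of A)),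
      NModif f ∧ ∀ η ∈ S, ∀ σ : Spec (Y.presheaf.stalk η) ⟶ X, σ ≫ f = Y.fromSpecStalk η ≫ g ≫ β →
        ¬ IsClosed ({σ (IsLocalRing.closedPoint (Y.presheaf.stalk η))} : Set X) := by
    intro S
    induction S using Finset.induction_on with
    | empty =>
      intro _
      refine ⟨_, 𝟙 _, ⟨Resolve.IsNormPtBlowupSeq.iso (Iso.refl _), inferInstance, inferInstance, inferInstance,
        ⟨⊤, ⟨genericPoint _, trivial⟩, inferInstance⟩, hAn, fun {_} => hgenA⟩, by simp⟩
    | insert η S hηS ih =>
      intro hS
      rw [Finset.coe_insert, Set.insert_subset_iff] at hS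
      obtain ⟨X, f, hf, hfS⟩ := ih hS.2
      haveI := hf.integral; haveI := hf.noeth; haveI := hf.proper
      haveI := valuation_stalk hdY hY hS.1.1
      let O := Y.presheaf.stalk η
      haveI : IsDomain O := inferInstanceAs (IsDomain (Y.presheaf.stalk η))
      let σ₀ : Spec O ⟶ Spec (CommRingCat.of A) := Y.fromSpecStalk η ≫ g ≫ β
      have hgen₀ : σ₀ (genericPoint (Spec O)) = genericPoint (Spec (CommRingCat.of A)) := by
        show β (g (Y.fromSpecStalk η (genericPoint (Spec O)))) = _
        rw [genericPoint_fromSpecStalk, eg, hβgen]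
      have hp : Y.fromSpecStalk η (IsLocalRing.closedPoint O) = η := Scheme.fromSpecStalk_closedPoint
      have hcl : IsClosed ({(g ≫ β) η} : Set (Spec (CommRingCat.of A))) := by
        rw [Scheme.Hom.comp_apply, ← Set.image_singleton]
        exact β.isClosedMap _ hS.1.2
      have hcl₀ : IsClosed ({σ₀ (IsLocalRing.closedPoint O)} : Set (Spec (CommRingCat.of A))) := by
        show IsClosed ({(g ≫ β) (Y.fromSpecStalk η (IsLocalRing.closedPoint O))} : Set _)
        rw [hp]; exact hcl
      have hclp := eq_closedPoint_of_isClosed hcl₀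
      let top : (Spec (CommRingCat.of A)).affineOpens := ⟨⊤, isAffineOpen_top _⟩
      let e : A →+* Γ(Spec (CommRingCat.of A), ⊤) := (Scheme.ΓSpecIso (CommRingCat.of A)).inv.hom
      have he : Function.Bijective e :=
        ConcreteCategory.bijective_of_isIso (Scheme.ΓSpecIso (CommRingCat.of A)).inv
      let toSt : A →+* (Spec (CommRingCat.of A)).presheaf.stalk (σ₀ (IsLocalRing.closedPoint O)) :=
        ((Spec (CommRingCat.of A)).presheaf.germ ⊤ (σ₀ (IsLocalRing.closedPoint O)) trivial).hom.comp e
      let χ : A →+* O := (toO (O := O) σ₀).comp toSt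
      haveI : IsLocalHom χ := ⟨fun a ha => by
        by_contra hna
        have h1 : toSt a ∈ IsLocalRing.maximalIdeal
            ((Spec (CommRingCat.of A)).presheaf.stalk (σ₀ (IsLocalRing.closedPoint O))) := by
          intro hu
          refine hna ?_
          have h2 := ((Spec (CommRingCat.of A)).mem_basicOpen (e a) _ trivial).2 hu
          rw [hclp] at h2
          rw [show e a = (Scheme.ΓSpecIso (CommRingCat.of A)).inv a from rfl, basicOpen_eq_of_affine] at h2
          exact IsLocalRing.notMem_maximalIdeal.1 h2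
        exact toO_mem_maximal (O := O) σ₀ h1 ha⟩
      have hj : ∀ a : A, Y.presheaf.stalkSpecializes (genericPoint_specializes η) (χ a) =
          Groth.L05.TraceSplit.baseToFF g (algebraMap A B a) := by
        have hY' : χ = (Y.presheaf.germ ⊤ η trivial).hom.comp (Coh.toGlobal (g ≫ β)) := by
          refine RingHom.ext fun a => ?_
          show Scheme.stalkClosedPointTo (Y.fromSpecStalk η ≫ g ≫ β) (toSt a) = _
          rw [Scheme.stalkClosedPointTo_comp]
          show Scheme.stalkClosedPointTo (Y.fromSpecStalk η) ((g ≫ β).stalkMap _ (toSt a)) = _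
          show Scheme.stalkClosedPointTo (Y.fromSpecStalk η) ((g ≫ β).stalkMap _
            ((Spec (CommRingCat.of A)).presheaf.germ ⊤ _ trivial (e a))) = _
          rw [Scheme.Hom.germ_stalkMap_apply, Scheme.stalkClosedPointTo_fromSpecStalk]
          exact TopCat.Presheaf.germ_stalkSpecializes_apply Y.presheaf (show Y.fromSpecStalk η (IsLocalRing.closedPoint O) ∈ (⊤ : Y.Opens) from trivial) (specializes_of_eq hp.symm) _
        intro a
        rw [hY']
        refine (TopCat.Presheaf.germ_stalkSpecializes_apply Y.presheaf (show η ∈ (⊤ : Y.Opens) from trivial) _ _).trans ?_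
        exact congrArg (Y.presheaf.germ ⊤ (genericPoint Y) trivial) (congrArg g.appTop
          congr($(Scheme.ΓSpecIso_inv_naturality (CommRingCat.ofHom (algebraMap A B))) a).symm)
      have hχ : Function.Injective χ := by
        intro a a' h
        letI := (Groth.L05.TraceSplit.baseToFF g).toAlgebra
        haveI := Groth.L05.TraceSplit.isFractionRing_baseToFF g hg
        exact hinj (IsFractionRing.injective B Y.functionField
          ((hj a).symm.trans ((congrArg _ h).trans (hj a'))))
      obtain ⟨cη, hcη⟩ : ∃ c : O, ∀ P : Polynomial A, P.Monic → IsUnit (P.eval₂ χ c) := by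
        obtain ⟨c, W, hW, hP⟩ : ∃ c : Y.presheaf.stalk (Y.fromSpecStalk η (IsLocalRing.closedPoint O)),
            ∃ (W : (Spec (CommRingCat.of A)).affineOpens)
              (hW : (g ≫ β) (Y.fromSpecStalk η (IsLocalRing.closedPoint O)) ∈ W.1),
              ∀ P : Polynomial Γ(Spec (CommRingCat.of A), W.1), P.Monic → IsUnit (P.eval₂
                (((g ≫ β).stalkMap _).hom.comp ((Spec (CommRingCat.of A)).presheaf.germ W.1 _ hW).hom) c) := by
          have key : ∀ p : Y, η = p → ∃ c : Y.presheaf.stalk p,
              ∃ (W : (Spec (CommRingCat.of A)).affineOpens) (hW : (g ≫ β) p ∈ W.1),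
                ∀ P : Polynomial Γ(Spec (CommRingCat.of A), W.1), P.Monic → IsUnit (P.eval₂
                  (((g ≫ β).stalkMap p).hom.comp ((Spec (CommRingCat.of A)).presheaf.germ W.1 _ hW).hom) c) := by
            rintro _ rfl
            exact exists_transc (g ≫ β) hS.1.1 hcl
          exact key _ hp.symm
        let ψ := toO (O := O) (Y.fromSpecStalk η)
        refine ⟨ψ c, fun P hPm => ?_⟩
        let r : A →+* Γ(Spec (CommRingCat.of A), W.1) :=
          ((Spec (CommRingCat.of A)).presheaf.map (homOfLE le_top).op).hom.comp e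
        have h := (hP (P.map r) (hPm.map r)).map ψ
        rw [Polynomial.hom_eval₂, Polynomial.eval₂_map] at h
        have e' : χ = (ψ.comp (((g ≫ β).stalkMap _).hom.comp
            ((Spec (CommRingCat.of A)).presheaf.germ W.1 _ hW).hom)).comp r := RingHom.ext fun a => by
          refine (toO_comp (O := O) (Y.fromSpecStalk η) (g ≫ β) (toSt a)).trans ?_
          refine congrArg (fun x => ψ ((g ≫ β).stalkMap _ x)) ?_
          exact (TopCat.Presheaf.germ_res_apply (Spec (CommRingCat.of A)).presheaf (homOfLE le_top : W.1 ⟶ ⊤) _ hW (e a)).symm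
        rw [e']; exact h
      have halg : ∃ p : Polynomial A, p ≠ 0 ∧ p.eval₂ χ cη = 0 := by
        letI := χ.toAlgebra
        haveI : Algebra.IsAlgebraic A O := by
          letI := (Groth.L05.TraceSplit.baseToFF g).toAlgebra
          haveI := Groth.L05.TraceSplit.isFractionRing_baseToFF g hg
          letI algA : Algebra A Y.functionField :=
            ((algebraMap B Y.functionField).comp (algebraMap A B)).toAlgebra
          haveI : IsScalarTower A B Y.functionField := IsScalarTower.of_algebraMap_eq' rfl
          haveI : Module.IsTorsionFree A Y.functionField := by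
            rw [Module.isTorsionFree_iff_algebraMap_injective]
            exact (IsFractionRing.injective B Y.functionField).comp hinj
          haveI : Algebra.IsAlgebraic A B := Algebra.IsIntegral.isAlgebraic
          haveI : Algebra.IsAlgebraic A Y.functionField := (IsFractionRing.isAlgebraic_iff' A B Y.functionField).1 ‹_›
          let j : O →ₐ[A] Y.functionField :=
            AlgHom.mk' (Y.presheaf.stalkSpecializes (genericPoint_specializes η)).hom fun a x => by
              rw [Algebra.smul_def, Algebra.smul_def, map_mul]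
              refine congrArg (· * _) ?_
              exact hj a
          exact Algebra.IsAlgebraic.of_injective j
            (IsFractionRing.injective (Y.presheaf.stalk η) Y.functionField)
        obtain ⟨p, hp0, hp⟩ := Algebra.IsAlgebraic.isAlgebraic (R := A) cη
        exact ⟨p, hp0, hp⟩
      obtain ⟨c, a₀, b₀, hb₀, hbc₀, hc₀⟩ := exists_transc_frac χ hχ cη halg hcη
      have hT : Transc (O := O) σ₀ c := by
        refine ⟨top, trivial, fun P hP => ?_⟩
        obtain ⟨P', rfl⟩ := Polynomial.map_surjective e he.2 P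
        rw [Polynomial.eval₂_map]
        exact hc₀ P' (Polynomial.monic_of_injective he.1 hP)
      have hab : ∃ a b : (Spec (CommRingCat.of A)).presheaf.stalk (σ₀ (IsLocalRing.closedPoint O)),
          toO (O := O) σ₀ b ≠ 0 ∧ toO (O := O) σ₀ b * c = toO (O := O) σ₀ a :=
        ⟨toSt a₀, toSt b₀, hb₀, hbc₀⟩
      obtain ⟨σ, hσ, hσgen⟩ := exists_val_lift (O := O) f hf.bir σ₀ hgen₀
      rw [← hσ] at hT hcl₀ hab
      obtain ⟨a, b, hb, hba⟩ := hab
      rw [toO_comp] at hb hba
      rw [toO_comp] at hba
      obtain ⟨X', π, hπp, hπb, hX', σ', hσ', hnc⟩ :=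
        exists_nonClosed_centre (O := O) hFin c _ hf σ hσgen hcl₀ hT _ _ hb hba rfl
      haveI := hπp
      refine ⟨X', π ≫ f, hX', fun η' hη' τ hτ => ?_⟩
      rcases Finset.mem_insert.1 hη' with rfl | hη'
      · haveI := hX'.proper
        haveI := hX'.integral
        have he' : σ' ≫ π ≫ f = τ ≫ π ≫ f := by rw [← Category.assoc σ' π f, hσ', hσ, hτ]
        rw [← val_lift_unique (O := O) (π ≫ f) hX'.bir σ' τ he' (by
          rw [← Scheme.Hom.comp_apply, ← Category.assoc, hσ', hσ]; exact hgen₀)]
        exact hnc
      · intro hcl'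
        refine hfS η' hη' (τ ≫ π) (by rw [Category.assoc, hτ]) ?_
        have h := π.isClosedMap _ hcl'
        rwa [Set.image_singleton] at h
  obtain ⟨X, f, hf, hcent⟩ := key hfinB.toFinset (fun η hη => hfinB.mem_toFinset.1 hη)
  haveI := hf.integral; haveI := hf.noeth; haveI := hf.proper
  obtain ⟨Z, π, g', hZ, hπ, hg', hZn, hg'b, hsq, hgen⟩ :=
    Groth.L05.TraceSplit.exists_finite_cover hNB hinj f hf.bir
  haveI := hZ; haveI := hπ; haveI := hg'
  haveI : IsLocallyNoetherian Z := LocallyOfFiniteType.isLocallyNoetherian g'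
  haveI : CompactSpace Z := QuasiCompact.compactSpace_of_compactSpace g'
  haveI : AlgebraicGeometry.IsNoetherian Z := ⟨⟩
  haveI : IsIntegral (Spec (CommRingCat.of B)) := inferInstance
  haveI : AlgebraicGeometry.IsNoetherian (Spec (CommRingCat.of B)) := inferInstance
  refine ⟨X, f, inferInstance, inferInstance, hf.normal, hf.bir, Z, π, g', hZ, hπ, hg', hZn, hg'b, hsq, hgen, ?_⟩
  refine dominate_of_centres hdimB hY g hg g' hg'b hZn fun η hη τ hτ hcl => ?_
  refine hcent η (hfinB.mem_toFinset.2 hη) (τ ≫ π) ?_ ?_
  · rw [Category.assoc, hsq, reassoc_of% hτ]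
  · have h := π.isClosedMap _ hcl
    rwa [Set.image_singleton] at h

end Groth.L05.SepUp
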