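import Groth.Agent.L05.TraceSplit.Basic
import Groth.Agent.L03.Euler.Push
import Groth.Agent.L21.RR.Equality
import Mathlib.RingTheory.Length

/-! Cohomology of a finite cover is bounded by that of the base up to torsion. -/

set_option autoImplicit false
set_option linter.style.haveILetI false
set_option maxHeartbeats 1000000
set_option backward.isDefEq.respectTransparency false
set_option backward.isDefEq.respectTransparency.types false

universe u

open CategoryTheory CategoryTheory.Limits AlgebraicGeometry TopologicalSpace Opposite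
open Groth.L05.TraceSplit
open Groth.L16

noncomputable section

namespace Groth.L05.SepUp

variable {X Z : Scheme.{u}} [IsIntegral X] [IsIntegral Z] (π : Z ⟶ X) (e : π (genericPoint Z) = genericPoint X)

/-- The restriction of a global function to a preimage. -/
abbrev resP (U : X.Opens) (r : Γ(Z, ⊤)) : Γ(Z, π ⁻¹ᵁ U) := Z.presheaf.map (homOfLE le_top).op r

omit [IsIntegral X] [IsIntegral Z] in
theorem resP_res {U V : X.Opens} (h : V ≤ U) (r : Γ(Z, ⊤)) :
    Z.presheaf.map (homOfLE (π.preimage_mono h)).op (resP π U r) = resP π V r := by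
  show ((Z.presheaf.map _) ≫ Z.presheaf.map _) r = _
  rw [← Functor.map_comp]; rfl

variable [IsIntegralHom π] (hN : ∀ x : X, IsIntegrallyClosed (X.presheaf.stalk x))
  (hfd : letI := (Groth.L21.Curve.ffMap π e).toAlgebra; FiniteDimensional X.functionField Z.functionField)

include hN hfd in
theorem exists_endo {m : ℕ} (b c : Fin m → Γ(Z, ⊤)) (d : Γ(X, ⊤))
    (h : letI := (Groth.L21.Curve.ffMap π e).toAlgebra
      ∀ s : Z.functionField, ∑ i, Z.presheaf.germ ⊤ (genericPoint Z) trivial (c i) *
        Groth.L21.Curve.ffMap π e (Algebra.trace X.functionField Z.functionField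
          (Z.presheaf.germ ⊤ (genericPoint Z) trivial (b i) * s)) =
        Groth.L21.Curve.ffMap π e (X.presheaf.germ ⊤ (genericPoint X) trivial d) * s) :
    ∃ (θ : Fin m → ((Scheme.Modules.pushforward π).obj (Coh.structureModule Z) ⟶ Coh.structureModule X))
      (ρ : Fin m → (Coh.structureModule X ⟶ (Scheme.Modules.pushforward π).obj (Coh.structureModule Z))),
      CohLinear.tm (∑ i, θ i ≫ ρ i) = Coh.smulAb ((Scheme.Modules.pushforward π).obj (Coh.structureModule Z)) d := by
  classical
  choose φ hφ hu using exists_unique_trace π e hN hfd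
  let θ : Fin m → ((Scheme.Modules.pushforward π).obj (Coh.structureModule Z) ⟶ Coh.structureModule X) := fun i =>
    Groth.L12.FinCov.mkHom (M := (Scheme.Modules.pushforward π).obj (Coh.structureModule Z))
      (N := Coh.structureModule X) (fun U s => φ U (resP π U (b i) * (show Γ(Z, π ⁻¹ᵁ U) from s)))
      (fun U (s t : Γ(Z, π ⁻¹ᵁ U)) => by
        refine (hu U _ (φ U (resP π U (b i) * s) + φ U (resP π U (b i) * t)) fun hU => ?_).symm
        refine (map_add (X.presheaf.germ U (genericPoint X) hU).hom _ _).trans ?_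
        rw [hφ U _ hU, hφ U _ hU]
        exact (trGen_add π e U hU _ _).symm.trans (congrArg (trGen π e U hU) (mul_add _ _ _).symm))
      (fun U r s => by
        refine (hu U _ (r * φ U (resP π U (b i) * (show Γ(Z, π ⁻¹ᵁ U) from s))) fun hU => ?_).symm
        refine (map_mul (X.presheaf.germ U (genericPoint X) hU).hom _ _).trans ?_
        rw [hφ U _ hU]
        refine (trGen_mul π e U hU r _).symm.trans (congrArg (trGen π e U hU) ?_)
        exact (mul_left_comm _ _ _).trans rfl)
      (fun U V hle s => by
        refine (hu V _ (X.presheaf.map (homOfLE hle).op (φ U (resP π U (b i) * (show Γ(Z, π ⁻¹ᵁ U) from s))))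
          fun hV => ?_).symm
        rw [TopCat.Presheaf.germ_res_apply, hφ U _ (hle hV)]
        refine (trGen_res π e hle hV _).symm.trans (congrArg (trGen π e V hV) ?_)
        refine (map_mul (Z.presheaf.map (homOfLE (π.preimage_mono hle)).op).hom _ _).trans ?_
        exact congrArg (· * _) (resP_res π hle (b i)))
  let ρ : Fin m → (Coh.structureModule X ⟶ (Scheme.Modules.pushforward π).obj (Coh.structureModule Z)) := fun i =>
    Groth.L12.FinCov.mkHom (M := Coh.structureModule X)
      (N := (Scheme.Modules.pushforward π).obj (Coh.structureModule Z))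
      (fun U s => (resP π U (c i) * π.app U s : Γ(Z, π ⁻¹ᵁ U)))
      (fun U s t => (congrArg (resP π U (c i) * ·) (map_add (π.app U).hom s t)).trans (mul_add _ _ _))
      (fun U r s => ((congrArg (resP π U (c i) * ·) (map_mul (π.app U).hom r s)).trans (mul_left_comm _ _ _)).trans rfl)
      (fun U V hle s => by
        refine Eq.trans ?_ (map_mul (Z.presheaf.map (homOfLE (π.preimage_mono hle)).op).hom _ _).symm
        refine (congrArg (resP π V (c i) * ·) ?_).trans (congrArg (· * _) (resP_res π hle (c i)).symm)
        exact congr($(π.naturality (homOfLE hle).op) s))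
  refine ⟨θ, ρ, ?_⟩
  have key : ∀ (U : X.Opens) (s : Γ(Z, π ⁻¹ᵁ U)),
      ∑ i, resP π U (c i) * π.app U (φ U (resP π U (b i) * s)) =
        π.app U (X.presheaf.map (homOfLE le_top).op d) * s := by
    intro U s
    by_cases hU : genericPoint X ∈ U
    · apply germ_injective_of_isIntegral Z (genericPoint Z) (genericPoint_mem_preimage π e hU)
      rw [map_sum, map_mul, ← ffMap_germ π e hU, TopCat.Presheaf.germ_res_apply]
      refine Eq.trans ?_ (h _)
      refine Finset.sum_congr rfl fun i _ => ?_
      rw [map_mul, ← ffMap_germ π e hU, hφ U _ hU, TopCat.Presheaf.germ_res_apply]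
      refine congrArg (fun x => _ * Groth.L21.Curve.ffMap π e x) ?_
      letI := (Groth.L21.Curve.ffMap π e).toAlgebra
      rw [trGen, map_mul, TopCat.Presheaf.germ_res_apply]
    · have hbot : U = ⊥ := Opens.ext (Set.eq_empty_of_forall_notMem fun x hx => hU (TraceSplit.genericPoint_mem hx))
      haveI : Subsingleton Γ(Z, π ⁻¹ᵁ U) := by rw [hbot, Scheme.Hom.preimage_bot]; infer_instance
      exact Subsingleton.elim _ _
  ext U s
  rw [Coh.smulAb_app]
  refine Eq.trans ?_ (key U.unop s)
  show (∑ i, θ i ≫ ρ i).app U.unop s = _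
  have hsum : ∀ S : Finset (Fin m), (show Γ(Z, π ⁻¹ᵁ U.unop) from (∑ i ∈ S, θ i ≫ ρ i).app U.unop s) =
      ∑ i ∈ S, (show Γ(Z, π ⁻¹ᵁ U.unop) from (θ i ≫ ρ i).app U.unop s) := by
    intro S
    induction S using Finset.induction_on with
    | empty => rw [Finset.sum_empty, Finset.sum_empty]; rfl
    | insert i S hi ih => rw [Finset.sum_insert hi, Finset.sum_insert hi, ← ih]; rfl
  exact hsum Finset.univ

include hN hfd in
/-- `H¹` of the cover is bounded by copies of `H¹` of the base and the torsion. -/
theorem length_HH_le (A : Type u) [CommRing A] [X.Over (Spec (CommRingCat.of A))] [Z.Over (Spec (CommRingCat.of A))]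
    (hπ : π ≫ (X ↘ Spec (CommRingCat.of A)) = Z ↘ Spec (CommRingCat.of A)) [X.IsSeparated] [IsLocallyNoetherian Z]
    {m : ℕ} (b c : Fin m → Γ(Z, ⊤)) (d : A)
    (h : letI := (Groth.L21.Curve.ffMap π e).toAlgebra
      ∀ s : Z.functionField, ∑ i, Z.presheaf.germ ⊤ (genericPoint Z) trivial (c i) *
        Groth.L21.Curve.ffMap π e (Algebra.trace X.functionField Z.functionField
          (Z.presheaf.germ ⊤ (genericPoint Z) trivial (b i) * s)) =
        Groth.L21.Curve.ffMap π e (X.presheaf.germ ⊤ (genericPoint X) trivial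
          (Coh.toGlobal (X ↘ Spec (CommRingCat.of A)) d)) * s) (n : ℕ) :
    Module.length A (Coh.HH Z (Coh.structureModule Z) n) ≤
      Module.length A ↥(Submodule.torsionBy A (Coh.HH Z (Coh.structureModule Z) n) d) +
        m * Module.length A (Coh.HH X (Coh.structureModule X) n) := by
  obtain ⟨θ, ρ, hθρ⟩ := exists_endo π e hN hfd b c _ h
  haveI : Coh.IsQCoh (Coh.structureModule Z) := CohClosedPush.isCoh_structure.1
  haveI : Coh.IsQCoh ((Coh.push π).obj (Coh.structureModule Z)) :=
    QcqsPush.isQCoh_push (Coh.structureModule Z) π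
  let V : X.affineOpens → X.Opens := fun U => U.1
  have hV : ∀ (k : ℕ) (a : Fin (k + 1) → X.affineOpens), IsAffineOpen (⨅ j, V (a j)) :=
    fun k a => IsAffineOpen.iInf fun j => (a j).2
  obtain ⟨E, hE⟩ := PushCompare.exists_HH_push π (Coh.structureModule Z) V (iSup_affineOpens_eq_top X)
    (fun k a q => subsingleton_of_forall_eq 0
      (Groth.L17.hu_affine_eq_zero (Coh.structureModule Z) ((hV k a).preimage π) q))
    (fun k a q => subsingleton_of_forall_eq 0 (Groth.L17.hu_affine_eq_zero _ (hV k a) q)) n
  let P : X.Modules := (Scheme.Modules.pushforward π).obj (Coh.structureModule Z)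
  let EA : Coh.HH Z (Coh.structureModule Z) n ≃ₗ[A] Coh.HH X P n :=
    { E with
      map_smul' := fun a x => by
        have h0 : Coh.toGlobal (Z ↘ Spec (CommRingCat.of A)) a =
            (show Coh.Γtop Z from π.appTop (Coh.toGlobal (X ↘ Spec (CommRingCat.of A)) a)) :=
          congrArg (fun g : Z ⟶ Spec (CommRingCat.of A) => Coh.toGlobal g a) hπ.symm
        exact (congrArg E (congrArg (fun r : Coh.Γtop Z => r • x) h0)).trans
          (hE (Coh.toGlobal (X ↘ Spec (CommRingCat.of A)) a) x) }
  let Θ : Coh.HH X P n →ₗ[A] (Fin m → Coh.HH X (Coh.structureModule X) n) :=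
    { toFun := fun x i => CohLinear.hmap (θ i) n x
      map_add' := fun x y => funext fun i => map_add _ x y
      map_smul' := fun a x => funext fun i => (CohLinear.hmap (θ i) n).map_smul _ x }
  have hker : ∀ x, Θ x = 0 → d • x = 0 := fun x hx => by
    have h1 : CohLinear.hmap (∑ i, θ i ≫ ρ i) n x = d • x := by
      show Sheaf.H.map (CohLinear.tm (∑ i, θ i ≫ ρ i)) n x = _
      rw [hθρ]; rfl
    rw [← h1, Groth.L21.RR.hmap_sum' Finset.univ (fun i => θ i ≫ ρ i) n x]
    refine Finset.sum_eq_zero fun i _ => ?_
    rw [CohLinear.hmap_comp, show CohLinear.hmap (θ i) n x = 0 from congrFun hx i, map_zero]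
  have hle : Module.length A ↥(LinearMap.ker Θ) ≤
      Module.length A ↥(Submodule.torsionBy A (Coh.HH Z (Coh.structureModule Z) n) d) := by
    refine Module.length_le_of_injective
      ((EA.symm.toLinearMap.comp (LinearMap.ker Θ).subtype).codRestrict _ fun x => ?_) fun x y hxy => ?_
    · show d • EA.symm (x : Coh.HH X P n) = 0
      rw [← EA.symm.map_smul, hker _ (LinearMap.mem_ker.1 x.2), map_zero]
    · exact Subtype.ext (EA.symm.injective (congrArg Subtype.val hxy))
  rw [EA.length_eq, Module.length_eq_add_of_exact (LinearMap.ker Θ).subtype Θ.rangeRestrict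
    Subtype.val_injective Θ.surjective_rangeRestrict
    (LinearMap.exact_iff.2 (by rw [LinearMap.ker_rangeRestrict, Submodule.range_subtype]))]
  refine add_le_add hle ?_
  refine (Module.length_le_of_injective _ (LinearMap.range Θ).subtype_injective).trans_eq ?_
  rw [Module.length_pi, ENat.card_eq_coe_fintype_card, Fintype.card_fin]

end Groth.L05.SepUp
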