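import Mathlib.RingTheory.Valuation.ValuationRing
import Mathlib.RingTheory.LocalRing.ResidueField.Basic
import Mathlib.FieldTheory.AlgebraicClosure
import Mathlib.RingTheory.IntegralClosure.IsIntegralClosure.Basic
import Mathlib.Algebra.Polynomial.Lifts

/-! A transcendental residue descends to the fractions of a subring with algebraic extension. -/

set_option autoImplicit false
set_option linter.style.haveILetI false
set_option maxHeartbeats 1000000

universe u

noncomputable section

namespace Groth.L05.SepUp

open IsLocalRing Polynomial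

variable {A O : Type u} [CommRing A] [CommRing O] [IsLocalRing A] [IsDomain O] [ValuationRing O]

theorem exists_dvd_all {ι : Type*} (v : ι → O) (S : Finset ι) (hS : S.Nonempty) : ∃ i ∈ S, ∀ j ∈ S, v i ∣ v j := by
  classical
  induction hS using Finset.Nonempty.cons_induction with
  | singleton a => exact ⟨a, Finset.mem_singleton_self a, fun j hj => by rw [Finset.mem_singleton.1 hj]⟩
  | cons a s ha hs ih =>
    obtain ⟨i, hi, h⟩ := ih
    rcases ValuationRing.dvd_total (v a) (v i) with h' | h'
    · refine ⟨a, Finset.mem_cons_self a s, fun j hj => ?_⟩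
      rcases Finset.mem_cons.1 hj with rfl | hj
      · exact dvd_rfl
      · exact h'.trans (h j hj)
    · refine ⟨i, Finset.mem_cons_of_mem hi, fun j hj => ?_⟩
      rcases Finset.mem_cons.1 hj with rfl | hj
      · exact h'
      · exact h j hj

/-- A residually transcendental element gives a residually transcendental fraction of elements of the subring. -/
theorem exists_transc_frac (χ : A →+* O) [IsLocalHom χ] (hχ : Function.Injective χ) (c : O)
    (halg : ∃ p : A[X], p ≠ 0 ∧ p.eval₂ χ c = 0) (hc : ∀ P : A[X], P.Monic → IsUnit (P.eval₂ χ c)) :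
    ∃ (c' : O) (a b : A), χ b ≠ 0 ∧ χ b * c' = χ a ∧ ∀ P : A[X], P.Monic → IsUnit (P.eval₂ χ c') := by
  classical
  obtain ⟨p, hp0, hpc⟩ := halg
  obtain ⟨i₀, hi₀, hdvd⟩ := exists_dvd_all (fun i => χ (p.coeff i)) p.support (by simpa using hp0)
  choose q hq using hdvd
  let qq : ℕ → O := fun i => if h : i ∈ p.support then q i h else 0
  have hqq : ∀ i, χ (p.coeff i) = χ (p.coeff i₀) * qq i := fun i => by
    by_cases h : i ∈ p.support
    · simp only [qq, dif_pos h]; exact hq i h
    · simp only [qq, dif_neg h]; rw [notMem_support_iff.1 h, map_zero, mul_zero]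
  have hb : χ (p.coeff i₀) ≠ 0 := fun h => mem_support_iff.1 hi₀ (hχ (h.trans (map_zero χ).symm))
  let Q : O[X] := ∑ i ∈ p.support, monomial i (qq i)
  have hQc : ∀ i, Q.coeff i = qq i := fun i => by
    simp only [Q, finsetSum_coeff, coeff_monomial, Finset.sum_ite_eq']
    by_cases h : i ∈ p.support
    · rw [if_pos h]
    · rw [if_neg h]; simp only [qq, dif_neg h]
  have hQ0 : Q.eval c = 0 := by
    refine mul_left_cancel₀ hb ?_
    rw [mul_zero, ← hpc, eval₂_eq_sum, sum_def, Finset.sum_congr rfl fun i _ => by rw [hqq i, mul_assoc],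
      ← Finset.mul_sum]
    congr 1
    simp [Q, eval_finsetSum]
  letI : Algebra (ResidueField A) (ResidueField O) := (ResidueField.map χ).toAlgebra
  have hres : ∀ (P : A[X]) (x : O), residue O (P.eval₂ χ x) = aeval (residue O x) (P.map (residue A)) := fun P x => by
    rw [hom_eval₂, aeval_def, eval₂_map]; rfl
  by_contra hne
  push Not at hne
  have hint : ∀ i, IsIntegral (ResidueField A) (residue O (qq i)) := fun i => by
    obtain ⟨P, hP, hu⟩ := hne (qq i) (p.coeff i) (p.coeff i₀) hb (hqq i).symm
    exact ⟨P.map (residue A), hP.map _, by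
      rw [← aeval_def, ← hres, residue_eq_zero_iff]; exact hu⟩
  let E := algebraicClosure (ResidueField A) (ResidueField O)
  obtain ⟨R, hR⟩ : Q.map (residue O) ∈ lifts (algebraMap E (ResidueField O)) := by
    rw [lifts_iff_coeff_lifts]
    intro i
    rw [coeff_map, hQc]
    exact ⟨⟨_, mem_algebraicClosure_iff.2 (hint i).isAlgebraic⟩, rfl⟩
  have hR0 : R ≠ 0 := fun h => by
    have h1 : (Q.map (residue O)).coeff i₀ = 0 := by rw [← hR, h]; simp
    rw [coeff_map, hQc, show qq i₀ = 1 from mul_left_cancel₀ hb ((hqq i₀).symm.trans (mul_one _).symm), map_one] at h1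
    exact one_ne_zero h1
  have halgE : IsAlgebraic E (residue O c) := ⟨R, hR0, by
    rw [aeval_def, ← eval_map, show R.map (algebraMap E (ResidueField O)) = Q.map (residue O) from hR,
      eval_map, eval₂_at_apply, hQ0, map_zero]⟩
  haveI : Algebra.IsIntegral (ResidueField A) E :=
    Algebra.isAlgebraic_iff_isIntegral.1 (algebraicClosure.isAlgebraic _ _)
  obtain ⟨P₀, hP₀, hP₀c⟩ := isIntegral_trans (R := ResidueField A) (residue O c) halgE.isIntegral
  obtain ⟨P, hP, -, hPm⟩ := lifts_and_degree_eq_and_monic
    ((lifts_iff_coeff_lifts _).2 fun i => residue_surjective (P₀.coeff i) : P₀ ∈ lifts (residue A)) hP₀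
  have h := hc P hPm
  refine (residue_ne_zero_iff_isUnit _).2 h ?_
  rw [hres, hP]
  exact hP₀c

end Groth.L05.SepUp
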